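import Cfsg.Agent.Lib.Mult.Glue
import Cfsg.Agent.Lib.Grp.O8p2.Main

set_option autoImplicit false
set_option maxRecDepth 100000
set_option Elab.async false

namespace Cfsg.Agent.Mult.O8p2

open Cfsg.Agent.CG Cfsg.Agent.CG.O8p2

noncomputable def p3T : ℕ := 0x140300500c0140300500c014030000000000016c0245b00900400c010030000000000002d01ac8c0c12302400c03000000000000000000140312202400803000000000000000000000000000000403000000000000000000000000000000000
noncomputable def p3q1 : ℕ := 0xa000040006d0000040000a000040000180000800002000050000200000c0000400001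
noncomputable def p3q2 : ℕ := 0x11a40016c16469002c240005a00004000ad802d48012120002d0001246d2240b51200009
noncomputable def p3NF : ℕ := 0x800000000000000000000000000000000000000000000000000000000000000000000000000000000000000000000000000000000000000000080200000000000080000001000000000000000000000000000000000000000000000000000000000000000000000000000000000000000000000000000000000000000000000000000000000000000000000000000000000000000000000000000000000000000000000000000000000000000000000000000000000000000000000402000000000000000004000000000000000000000100000000000000000000000000000000000000000000000000000000000000400000000000000000000010000000000000000000000400000000000000000000000000000000000000000000000000000000000000000000000000000000000000000000000000000100000000000000000000004000000000000000000000000000000000000000000000000000000000000000000000000000000000000000000000000000000000000000000000000010000000000000000000000000000000000000000000000000000000000000000000000000000000000000000000000000000000000000000000000000000000000000000000000000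
noncomputable def p3mNF : ℕ := 0xffffffffffffffffffff
noncomputable def p3gv : ℕ := 0x10040000400004020000000800004000000100800000000000000402004000000100000000000000000000000000000100000000000000100000
noncomputable def p3mgv : ℕ := 0xffffffffffffffffffff
noncomputable def p3av : ℕ := 0x8000000000000000000080200000000000000000000000000000000000000000000000000000000000000000000000000000000000000000000000
noncomputable def p3mav : ℕ := 0xffffffffffffffffffff
noncomputable def p3mu : ℕ := 0x80088008000000000000000684000000000000020588000000000000000002000000000000000000000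
noncomputable def p3om : ℕ := 0x0
noncomputable def p3tm : ℕ := 0x77bdef69def7af877bd20c202f7a241cddef5cd677bdead5def7bd4f7bdef7bd
noncomputable def p3par : ℕ := 0x5544ce347699
noncomputable def p3z : Desc := ⟨0,0,0,0,[],[]⟩
noncomputable def p3ds : Tr Desc := (.node (.node (.node (.node (.node (.node (.leaf p3z) (.leaf ⟨1,0x2,2,2,[],[]⟩)) (.node (.leaf p3z) (.leaf p3z))) (.node (.node (.leaf p3z) (.leaf ⟨2,0,0,0,[3,1],[1,3,4,4]⟩)) (.leaf p3z))) (.node (.node (.node (.leaf p3z) (.leaf p3z)) (.leaf ⟨0,6,0,0,[],[]⟩)) (.node (.node (.leaf p3z) (.leaf p3z)) (.leaf ⟨1,0x2,1,1,[],[]⟩)))) (.node (.node (.node (.node (.leaf p3z) (.leaf ⟨1,0x5,2,1,[],[]⟩)) (.node (.leaf p3z) (.leaf p3z))) (.node (.node (.leaf p3z) (.leaf p3z)) (.leaf ⟨0,1,0,0,[],[]⟩))) (.node (.node (.node (.leaf p3z) (.leaf p3z)) (.leaf p3z)) (.node (.node (.leaf ⟨0,4,0,0,[],[]⟩) (.leaf p3z)) (.leaf p3z))))) (.node (.node (.node (.node (.node (.leaf p3z) (.leaf ⟨1,0x3,3,3,[],[]⟩)) (.node (.leaf p3z) (.leaf p3z))) (.node (.node (.leaf p3z) (.leaf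 p3z)) (.leaf ⟨0,0,0,0,[],[]⟩))) (.node (.node (.node (.leaf p3z) (.leaf p3z)) (.leaf ⟨0,7,0,0,[],[]⟩)) (.node (.node (.leaf ⟨0,3,0,0,[],[]⟩) (.leaf ⟨2,1,0,0,[2,2,2],[4,4]⟩)) (.leaf p3z)))) (.node (.node (.node (.node (.leaf p3z) (.leaf ⟨1,0x24,4,2,[],[]⟩)) (.leaf ⟨0,5,0,0,[],[]⟩)) (.node (.node (.leaf p3z) (.leaf p3z)) (.leaf ⟨1,0x3,2,1,[],[]⟩))) (.node (.node (.node (.leaf ⟨0,2,0,0,[],[]⟩) (.leaf ⟨2,0,0,0,[1,0],[0,1,3,3]⟩)) (.leaf p3z)) (.node (.node (.leaf p3z) (.leaf p3z)) (.leaf ⟨1,0x4,2,1,[],[]⟩))))))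
noncomputable def p3rd : Tr Desc := (.node (.node (.node (.leaf ⟨2,0,0,0,[0,0,0],[]⟩) (.leaf ⟨2,2,0,0,[3,0],[0,3]⟩)) (.leaf ⟨2,1,0,0,[1,1,1],[4]⟩)) (.node (.node (.leaf ⟨2,1,0,0,[3,0],[0,3]⟩) (.leaf ⟨2,0,0,0,[2,1],[1,2,3,3,4]⟩)) (.leaf ⟨2,1,0,0,[3,2],[2,3,4,4]⟩)))
noncomputable def D3 : Dat where
  p := 3
  q := 3
  n1 := 6
  b := 3
  fl := 7
  ew := 22
  T := p3T
  w := 13
  fuel := 127
  nf := 3
  cm := 5
  q1 := fun x => look 0x1fffff p3q1 (Nat.mul 21 x)
  q2 := fun x => look 0x1fffff p3q2 (Nat.mul 21 x)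
  NV := 51
  d := 8
  w2 := 10
  NF := fun x => look p3mNF p3NF (Nat.mul 80 x)
  tm := fun x => look 0x1f p3tm (Nat.mul 5 x)
  TM := 29
  par := fun x => look 0x3f p3par (Nat.mul 6 x)
  ds := fun x => p3ds.get x
  r := 6
  s0 := 0
  gv := fun x => look p3mgv p3gv (Nat.mul 80 x)
  rd := fun x => p3rd.get x
  av := fun x => look p3mav p3av (Nat.mul 80 x)
  mw := 2
  mu := fun x => look 0xfff p3mu (Nat.mul 12 x)
  ms := []
  om := fun x => look 0xfff p3om (Nat.mul 12 x)
noncomputable def p3w1 : List (List ℕ) := [[51,3,22,21,51,50,37],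
  [27,2,35,22,33,31,38,43,45],
  [13,3,35,22,28,35,37,44,45],
  [15,1,32,27,50,30,38,43,45],
  [0,6,36,52,28,27,34,43,36,43,45],
  [21,0,26,24,30,29,37,30,44,45],
  [53,33,27,34,30,38,43,45],
  [10,1,42,25,26,26,26,44,30,42,45]]
noncomputable def p3w2 : List (List ℕ) := [[1],
  [2],
  [3],
  [4],
  [5]]
noncomputable def p3L0c : ℕ := 0x6f04950
noncomputable def p3L0p : ℕ := 0x40000
noncomputable def p3L0l : ℕ := 0xc0600
noncomputable def p3L0q : ℕ := 0x10000200
noncomputable def p3L1c : ℕ := 0x1448115f0960fc5285d18c4bc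
noncomputable def p3L1p : ℕ := 0x500800c0100100000400000
noncomputable def p3L1l : ℕ := 0x20040080100200401402800
noncomputable def p3L1q : ℕ := 0x800000800000000000008000000000000000000c0000000e0000000600001000005
noncomputable def p3L2c : ℕ := 0x2943f12c
noncomputable def p3L2p : ℕ := 0x100000
noncomputable def p3L2l : ℕ := 0x401000
noncomputable def p3L2q : ℕ := 0x200001
noncomputable def p3L3c : ℕ := 0x512be408
noncomputable def p3L3p : ℕ := 0x400000
noncomputable def p3L3l : ℕ := 0x400800
noncomputable def p3L3q : ℕ := 0x100000800000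
noncomputable def p3L : List Lvl := [mkLvl 336 [3] 3 9 p3L0c p3L0p p3L0l 7 p3L0q,
  mkLvl 1212 [5,2] 9 11 p3L1c p3L1p p3L1l 25 p3L1q,
  mkLvl 300 [4] 3 10 p3L2c p3L2p p3L2l 7 p3L2q,
  mkLvl 1032 [1] 3 11 p3L3c p3L3p p3L3l 7 p3L3q]

theorem p3c0 : okcb 120 12 (bases p3L) = true := by decide +kernel
theorem p3c1 : D3.chkNum 0 5 174182400 p3w2 p3L = true := by decide +kernel
theorem p3c2 : headAll (appW (appW app p3w1) p3w2) p3L [] = true := by decide +kernel
theorem p3c3 : allL (fun l => l.chk (appW (appW app p3w1) p3w2) 1 (l.N - 1)) p3L = true := by decide +kernel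
theorem p3c4 : D3.chkPc (appW app p3w1) bs 0 36 = true := by decide +kernel
theorem p3c5 : D3.chkFus (appW app p3w1) bs 0 15 = true := by decide +kernel
theorem p3c6 : D3.chkHead = true := by decide +kernel
theorem p3c7 : D3.chkVars 0 51 = true := by decide +kernel
theorem p3c8 : D3.chkRhos 0 6 = true := by decide +kernel
theorem p3c9 : D3.chkEnts 0 36 = true := by decide +kernel

theorem pb3 : PB PG 3 [] :=
  Dat.pbA (D := D3) base card (by norm_num : Nat.Prime 3) (okc_of_okcb p3c0) p3c1 p3c2 p3c3
    p3c4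
    p3c5
    p3c6 p3c7
    p3c8
    p3c9

end Cfsg.Agent.Mult.O8p2
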